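import Mathlib

/-! Cutting a smooth algebra by an element whose differential does not vanish. -/

namespace Groth.Agent.SmoothSlice

universe u

open TensorProduct

variable {R A : Type u} [CommRing R] [CommRing A] [Algebra R A]

/-- Correcting a lift along a square zero ideal by a derivation. -/
noncomputable def twist {B : Type u} [CommRing B] [Algebra R B] (f₀ : A →ₐ[R] B)
    (D : Derivation R A A) (δ : B) (hδ : δ * δ = 0) : A →ₐ[R] B where
  toFun a := f₀ a + δ * f₀ (D a)
  map_one' := by simp
  map_mul' a b := by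
    simp only [Derivation.leibniz, smul_eq_mul, map_mul, map_add]
    linear_combination (-(f₀ (D a) * f₀ (D b))) * hδ
  map_zero' := by simp
  map_add' a b := by simp only [map_add]; ring
  commutes' r := by simp

theorem twist_apply {B : Type u} [CommRing B] [Algebra R B] (f₀ : A →ₐ[R] B)
    (D : Derivation R A A) (δ : B) (hδ : δ * δ = 0) (a : A) :
    twist f₀ D δ hδ a = f₀ a + δ * f₀ (D a) := rfl

variable [Algebra.Smooth R A] {h : A} (D : Derivation R A A) (hD : D h = 1)

include hD in
theorem exists_lift {B : Type u} [CommRing B] [Algebra R B] (I : Ideal B) (hI : I ^ 2 = ⊥)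
    (g : A →ₐ[R] B ⧸ I) (t : B) (ht : g h = Ideal.Quotient.mk I t) :
    ∃ f : A →ₐ[R] B, (Ideal.Quotient.mkₐ R I).comp f = g ∧ f h = t := by
  have : Algebra.FormallySmooth R A := Algebra.Smooth.formallySmooth
  obtain ⟨f₀, rfl⟩ := Algebra.FormallySmooth.comp_surjective R A I hI g
  have hmem : t - f₀ h ∈ I := by
    rw [← Ideal.Quotient.eq, ← ht]
    rfl
  have hδ : (t - f₀ h) * (t - f₀ h) = 0 := by
    have h2 := Ideal.mul_mem_mul hmem hmem
    rwa [← pow_two I, hI, Ideal.mem_bot] at h2
  refine ⟨twist f₀ D _ hδ, AlgHom.ext fun a => ?_, ?_⟩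
  · simp only [AlgHom.comp_apply, twist_apply, Ideal.Quotient.mkₐ_eq_mk, map_add, map_mul,
      Ideal.Quotient.eq_zero_iff_mem.2 hmem, zero_mul, add_zero]
  · rw [twist_apply, hD, map_one, mul_one]
    ring

include hD in
theorem smooth_quotient : Algebra.Smooth R (A ⧸ Ideal.span {h}) := by
  have : Algebra.FinitePresentation R (A ⧸ Ideal.span {h}) :=
    Algebra.FinitePresentation.quotient ⟨{h}, by simp⟩
  refine ⟨Algebra.FormallySmooth.of_comp_surjective fun B _ _ I hI g => ?_, this⟩
  obtain ⟨f, hf, hfh⟩ := exists_lift D hD I hI (g.comp (Ideal.Quotient.mkₐ R _)) 0 (by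
    rw [map_zero, AlgHom.comp_apply, Ideal.Quotient.mkₐ_eq_mk,
      Ideal.Quotient.eq_zero_iff_mem.2 (Ideal.mem_span_singleton_self h), map_zero])
  refine ⟨Ideal.Quotient.liftₐ _ f fun a ha => ?_, ?_⟩
  · obtain ⟨c, rfl⟩ := Ideal.mem_span_singleton.1 ha
    rw [map_mul, hfh, zero_mul]
  · refine AlgHom.ext fun x => ?_
    obtain ⟨a, rfl⟩ := Ideal.Quotient.mk_surjective x
    exact DFunLike.congr_fun hf a

include hD in
theorem mem_nonZeroDivisors : h ∈ nonZeroDivisors A := by
  let := (Polynomial.aeval (R := R) h).toRingHom.toAlgebra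
  have hX : algebraMap (Polynomial R) A Polynomial.X = h := Polynomial.aeval_X (R := R) h
  have : IsScalarTower R (Polynomial R) A :=
    IsScalarTower.of_algebraMap_eq fun r => ((Polynomial.aeval (R := R) h).commutes r).symm
  have : Algebra.FinitePresentation (Polynomial R) A :=
    Algebra.FinitePresentation.of_restrict_scalars_finitePresentation R (Polynomial R) A
  have : Algebra.FormallySmooth (Polynomial R) A := by
    refine Algebra.FormallySmooth.of_comp_surjective fun B _ _ I hI g => ?_
    let := ((algebraMap (Polynomial R) B).comp (algebraMap R (Polynomial R))).toAlgebra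
    have : IsScalarTower R (Polynomial R) B := IsScalarTower.of_algebraMap_eq fun _ => rfl
    obtain ⟨f, hf, hfh⟩ := exists_lift D hD I hI (g.restrictScalars R)
      (algebraMap (Polynomial R) B Polynomial.X) (by
        rw [AlgHom.restrictScalars_apply, ← hX, AlgHom.commutes]
        rfl)
    have hc : ∀ p, f (algebraMap (Polynomial R) A p) = algebraMap (Polynomial R) B p :=
      fun p => DFunLike.congr_fun (show (f.comp (IsScalarTower.toAlgHom R (Polynomial R) A)) =
        IsScalarTower.toAlgHom R (Polynomial R) B from Polynomial.algHom_ext (by simp [hX, hfh])) p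
    exact ⟨{ f.toRingHom with commutes' := hc }, AlgHom.ext fun x => DFunLike.congr_fun hf x⟩
  have : Algebra.Smooth (Polynomial R) A := ⟨this, inferInstance⟩
  have hflat : Module.Flat (Polynomial R) A := inferInstance
  have hreg : IsSMulRegular A (Polynomial.X : Polynomial R) :=
    Module.Flat.isSMulRegular_of_isRegular
      ⟨Polynomial.monic_X.isRegular.left, Polynomial.monic_X.isRegular.right⟩
  rw [mem_nonZeroDivisors_iff_right]
  intro a ha
  refine hreg (?_ : (Polynomial.X : Polynomial R) • a = (Polynomial.X : Polynomial R) • 0)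
  rw [smul_zero, Algebra.smul_def, hX, mul_comm, ha]

omit [Algebra.Smooth R A] in
theorem exists_derivation_notMem [Algebra.Smooth R A] (q : Ideal A) [q.IsPrime] {O : Type u} [CommRing O]
    [Algebra A O] {O₀ : Type u} [CommRing O₀] [Algebra R O₀] [Algebra O₀ O] [Algebra R O] [IsLocalRing O]
    [IsScalarTower R O₀ O] [IsScalarTower R A O]
    (hq : q ≤ (IsLocalRing.maximalIdeal O).comap (algebraMap A O)) (a : A)
    (hd : (1 : IsLocalRing.ResidueField O) ⊗ₜ[O] (KaehlerDifferential.D O₀ O (algebraMap A O a)) ≠ 0) :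
    ∃ D : Derivation R A A, D a ∉ q := by
  have : Algebra.FormallySmooth R A := Algebra.Smooth.formallySmooth
  obtain ⟨m, p, σ, -, -, hpσ⟩ := Module.Finite.exists_comp_eq_id_of_projective A Ω[A⁄R]
  by_contra hcon
  simp only [not_exists, not_not] at hcon
  apply hd
  have hΩ : KaehlerDifferential.D R A a =
      ∑ i, σ (KaehlerDifferential.D R A a) i • p (Pi.single i 1) := by
    conv_lhs => rw [← LinearMap.id_apply (R := A) (KaehlerDifferential.D R A a), ← hpσ,
      LinearMap.comp_apply, pi_eq_sum_univ' (σ (KaehlerDifferential.D R A a))]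
    simp [map_sum, Pi.single_apply, map_smul]
  have h2 := congrArg (KaehlerDifferential.map R O₀ A O) hΩ
  rw [KaehlerDifferential.map_D, map_sum] at h2
  rw [h2, tmul_sum]
  refine Finset.sum_eq_zero fun i _ => ?_
  have hi : σ (KaehlerDifferential.D R A a) i ∈ q :=
    hcon (((LinearMap.proj i).comp σ).compDer (KaehlerDifferential.D R A))
  rw [map_smul, ← algebraMap_smul O (σ (KaehlerDifferential.D R A a) i), tmul_smul, smul_tmul',
    Algebra.smul_def, mul_one, IsLocalRing.ResidueField.algebraMap_eq,
    IsLocalRing.residue_eq_zero_iff _ |>.2 (hq hi), zero_tmul]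

theorem exists_localized_derivation (D : Derivation R A A) (a : A) (A' : Type u) [CommRing A'] [Algebra A A']
    [Algebra R A'] [IsScalarTower R A A'] [IsLocalization.Away (D a) A'] :
    ∃ D' : Derivation R A' A', D' (algebraMap A A' a) = 1 := by
  let L := KaehlerDifferential.map R R A A'
  let lift₀ : Ω[A⁄R] →ₗ[A] A' := (Algebra.linearMap A A').comp D.liftKaehlerDifferential
  have hu : ∀ x : Submonoid.powers (D a), IsUnit (algebraMap A (Module.End A A') x) := fun x => by
    have := IsLocalization.map_units A' x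
    rw [Module.End.isUnit_iff]
    have e : ⇑(algebraMap A (Module.End A A') x) = ⇑(Units.mulLeft this.unit) := by
      funext y
      simp [Algebra.smul_def]
    rw [e]
    exact (Units.mulLeft this.unit).bijective
  let φ : Ω[A'⁄R] →ₗ[A] A' := IsLocalizedModule.lift (Submonoid.powers (D a)) L lift₀ hu
  let φ' : Ω[A'⁄R] →ₗ[A'] A' := LinearMap.extendScalarsOfIsLocalization (Submonoid.powers (D a)) A' φ
  have hφ : φ' (KaehlerDifferential.D R A' (algebraMap A A' a)) = algebraMap A A' (D a) := by
    show φ _ = _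
    rw [← KaehlerDifferential.map_D R R A A' a, IsLocalizedModule.lift_apply]
    simp [lift₀]
  obtain ⟨v, hv⟩ := (IsLocalization.Away.algebraMap_isUnit (S := A') (D a))
  refine ⟨(↑v⁻¹ : A') • φ'.compDer (KaehlerDifferential.D R A'), ?_⟩
  show (↑v⁻¹ : A') * φ' _ = 1
  refine (congrArg ((↑v⁻¹ : A') * ·) hφ).trans ?_
  show (↑v⁻¹ : A') * algebraMap A A' (D a) = 1
  rw [← hv, Units.inv_mul]

end Groth.Agent.SmoothSlice
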