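import Mathlib
import Groth.Agent.SmoothSlice.Ring

/-! Smooth effective Cartier divisors through a point. -/

namespace Groth.Agent.SmoothSlice

universe u

open AlgebraicGeometry CategoryTheory Limits TensorProduct

theorem smooth_of_comp_mono {X Y Z : Scheme.{u}} (a : X ⟶ Y) (b : Y ⟶ Z) [Mono b] (h : Smooth (a ≫ b)) :
    Smooth a := by
  have sq : IsPullback (𝟙 X) a (a ≫ b) b := by
    refine ⟨⟨by simp⟩, ⟨PullbackCone.IsLimit.mk _ (fun s => s.fst) (fun s => by simp) (fun s => ?_) ?_⟩⟩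
    · rw [← cancel_mono b, Category.assoc, s.condition]
    · intro s m hm₁ hm₂
      rw [← hm₁, Category.comp_id]
  exact MorphismProperty.of_isPullback (P := @Smooth) sq h

theorem smooth_appLE {X S : Scheme.{u}} (f : X ⟶ S) (W : X.Opens) (hW : Smooth (W.ι ≫ f))
    {U : X.Opens} (hU : IsAffineOpen U) (hUW : U ≤ W) {V : S.Opens} (hV : IsAffineOpen V) (e : U ≤ f ⁻¹ᵁ V) :
    (f.appLE V U e).hom.Smooth := by
  have h1 : Smooth (hU.fromSpec ≫ f) := by
    have hj : IsOpenImmersion.lift W.ι hU.fromSpec (by simpa [hU.range_fromSpec] using hUW) ≫ W.ι = hU.fromSpec :=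
      IsOpenImmersion.lift_fac _ _ _
    have : IsOpenImmersion (IsOpenImmersion.lift W.ι hU.fromSpec (by simpa [hU.range_fromSpec] using hUW)) := by
      refine IsOpenImmersion.of_comp _ W.ι
    rw [← hj, Category.assoc]
    infer_instance
  rw [← hV.SpecMap_appLE_fromSpec f hU e] at h1
  exact HasRingHomProperty.Spec_iff.1 (smooth_of_comp_mono _ _ h1)

theorem germ_stalkMap_appLE {X S : Scheme.{u}} (f : X ⟶ S) {V : S.Opens} {U : X.Opens} (e : U ≤ f ⁻¹ᵁ V)
    (x : X) (hx : x ∈ U) :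
    (X.presheaf.germ U x hx).hom.comp (f.appLE V U e).hom =
      (f.stalkMap x).hom.comp (S.presheaf.germ V (f x) (e hx)).hom := by
  rw [← CommRingCat.hom_comp, ← CommRingCat.hom_comp]
  congr 1
  rw [Scheme.Hom.appLE, Category.assoc, TopCat.Presheaf.germ_res, Scheme.Hom.germ_stalkMap]

theorem exists_smooth_effCartier {X S : Scheme.{u}} (f : X ⟶ S) (x : X)
    (W : X.Opens) (hxW : x ∈ W) (hW : Smooth (W.ι ≫ f))
    (h : X.presheaf.stalk x) (hd : letI := (f.stalkMap x).hom.toAlgebra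
      (1 : IsLocalRing.ResidueField (X.presheaf.stalk x)) ⊗ₜ[X.presheaf.stalk x]
          (KaehlerDifferential.D (S.presheaf.stalk (f x)) (X.presheaf.stalk x) h) ≠ 0) :
    ∃ (U : X.Opens) (hU : IsAffineOpen U) (hx : x ∈ U) (h' : Γ(X, U)), X.presheaf.germ U x hx h' = h ∧
      h' ∈ nonZeroDivisors Γ(X, U) ∧
      Smooth (Spec.map (CommRingCat.ofHom (Ideal.Quotient.mk (Ideal.span {h'}))) ≫ hU.fromSpec ≫ f) := by
  obtain ⟨V, hV, hxV, -⟩ := exists_isAffineOpen_mem_and_subset (U := (⊤ : S.Opens)) (x := f x) trivial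
  obtain ⟨U₀, hxU₀, h₀, hh₀⟩ := X.presheaf.exists_germ_eq (x := x) h
  obtain ⟨U, hU, hxU, hsub⟩ := exists_isAffineOpen_mem_and_subset
    (U := U₀ ⊓ W ⊓ f ⁻¹ᵁ V) (x := x) ⟨⟨hxU₀, hxW⟩, hxV⟩
  have hUU₀ : U ≤ U₀ := fun z hz => (hsub hz).1.1
  have hUW : U ≤ W := fun z hz => (hsub hz).1.2
  have hUV : U ≤ f ⁻¹ᵁ V := fun z hz => (hsub hz).2
  let a : Γ(X, U) := X.presheaf.map (homOfLE hUU₀).op h₀
  have ha : X.presheaf.germ U x hxU a = h := by
    rw [TopCat.Presheaf.germ_res_apply]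
    exact hh₀
  let := (f.appLE V U hUV).hom.toAlgebra
  have : Algebra.Smooth Γ(S, V) Γ(X, U) := smooth_appLE f W hW hU hUW hV hUV
  obtain ⟨D, hD⟩ : ∃ D : Derivation Γ(S, V) Γ(X, U) Γ(X, U), D a ∉ (hU.primeIdealOf ⟨x, hxU⟩).asIdeal := by
    let := (f.stalkMap x).hom.toAlgebra
    let : Algebra Γ(X, U) (X.presheaf.stalk x) := X.presheaf.algebra_section_stalk ⟨x, hxU⟩
    let := ((X.presheaf.germ U x hxU).hom.comp (f.appLE V U hUV).hom).toAlgebra
    let := (S.presheaf.germ V (f x) (hUV hxU)).hom.toAlgebra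
    have : IsScalarTower Γ(S, V) Γ(X, U) (X.presheaf.stalk x) := IsScalarTower.of_algebraMap_eq fun _ => rfl
    have : IsScalarTower Γ(S, V) (S.presheaf.stalk (f x)) (X.presheaf.stalk x) :=
      IsScalarTower.of_algebraMap_eq fun r => RingHom.congr_fun (germ_stalkMap_appLE f hUV x hxU) r
    have := hU.isLocalization_stalk ⟨x, hxU⟩
    refine exists_derivation_notMem (O₀ := S.presheaf.stalk (f x)) (O := X.presheaf.stalk x) _ (fun z hz => ?_) a ?_
    · exact (IsLocalization.AtPrime.to_map_mem_maximal_iff (X.presheaf.stalk x)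
        (hU.primeIdealOf ⟨x, hxU⟩).asIdeal z).2 hz
    · show _ ⊗ₜ[X.presheaf.stalk x] KaehlerDifferential.D _ _ (X.presheaf.germ U x hxU a) ≠ 0
      rw [ha]
      exact hd
  have hU' : IsAffineOpen (X.basicOpen (D a)) := hU.basicOpen _
  have hle : X.basicOpen (D a) ≤ U := X.basicOpen_le _
  have hx' : x ∈ X.basicOpen (D a) := by
    rw [Scheme.mem_basicOpen _ _ x hxU]
    have := hU.isLocalization_stalk ⟨x, hxU⟩
    let : Algebra Γ(X, U) (X.presheaf.stalk x) := X.presheaf.algebra_section_stalk ⟨x, hxU⟩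
    exact (IsLocalization.AtPrime.isUnit_to_map_iff (X.presheaf.stalk x)
      (hU.primeIdealOf ⟨x, hxU⟩).asIdeal (D a)).2 hD
  let := (f.appLE V (X.basicOpen (D a)) (hle.trans hUV)).hom.toAlgebra
  have : Algebra.Smooth Γ(S, V) Γ(X, X.basicOpen (D a)) :=
    smooth_appLE f W hW hU' (hle.trans hUW) hV (hle.trans hUV)
  have : IsScalarTower Γ(S, V) Γ(X, U) Γ(X, X.basicOpen (D a)) :=
    IsScalarTower.of_algebraMap_eq fun r => (RingHom.congr_fun (congrArg CommRingCat.Hom.hom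
      (f.appLE_map hUV (homOfLE hle).op)) r).symm
  have := hU.isLocalization_basicOpen (D a)
  obtain ⟨D', hD'⟩ := exists_localized_derivation D a Γ(X, X.basicOpen (D a))
  refine ⟨X.basicOpen (D a), hU', hx', algebraMap Γ(X, U) Γ(X, X.basicOpen (D a)) a, ?_,
    mem_nonZeroDivisors D' hD', ?_⟩
  · show X.presheaf.germ _ x hx' (X.presheaf.map _ a) = h
    rw [TopCat.Presheaf.germ_res_apply]
    exact ha
  · have hs := smooth_quotient D' hD'
    rw [← hV.SpecMap_appLE_fromSpec f hU' (hle.trans hUV), ← Category.assoc, ← Spec.map_comp]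
    have : Smooth (Spec.map (f.appLE V (X.basicOpen (D a)) (hle.trans hUV) ≫
        CommRingCat.ofHom (Ideal.Quotient.mk (Ideal.span
          {algebraMap Γ(X, U) Γ(X, X.basicOpen (D a)) a})))) := by
      refine HasRingHomProperty.Spec_iff.2 ?_
      exact RingHom.smooth_algebraMap.2 hs
    infer_instance

end Groth.Agent.SmoothSlice
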