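import Mathlib
import Groth.Agent.S0393

/-! A nonzero differential in the maximal ideal, for a formally smooth residue extension. -/

namespace Groth.Agent.SmoothSlice

universe u

open TensorProduct IsLocalRing

theorem exists_differential_ne_zero {O₀ O B : Type u} [CommRing O₀] [IsLocalRing O₀] [CommRing O] [IsLocalRing O]
    [Algebra O₀ O] [IsLocalHom (algebraMap O₀ O)] [CommRing B] [IsLocalRing B] [IsNoetherianRing B]
    (φ : O →+* B) (hφ : Function.Surjective φ)
    (hker : RingHom.ker φ = (maximalIdeal O₀).map (algebraMap O₀ O)) (hB : maximalIdeal B ≠ ⊥)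
    (hsep : letI := (ResidueField.map (algebraMap O₀ O)).toAlgebra
      Algebra.FormallySmooth (ResidueField O₀) (ResidueField O)) :
    ∃ h ∈ maximalIdeal O, (1 : ResidueField O) ⊗ₜ[O] KaehlerDifferential.D O₀ O h ≠ 0 := by
  let C := B ⧸ maximalIdeal B ^ 2
  let π : O →+* C := (Ideal.Quotient.mk (maximalIdeal B ^ 2)).comp φ
  have hπ : Function.Surjective π := Ideal.Quotient.mk_surjective.comp hφ
  have hkC : ∀ a ∈ maximalIdeal O₀, π (algebraMap O₀ O a) = 0 := fun a ha => by
    have : φ (algebraMap O₀ O a) = 0 := hker.ge (Ideal.mem_map_of_mem _ ha)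
    show Ideal.Quotient.mk _ (φ _) = 0
    rw [this, map_zero]
  let kC : ResidueField O₀ →+* C := Ideal.Quotient.lift (maximalIdeal O₀) (π.comp (algebraMap O₀ O)) hkC
  let := kC.toAlgebra
  let := (ResidueField.map (algebraMap O₀ O)).toAlgebra
  have hloc : ∀ a, a ∈ maximalIdeal O ↔ φ a ∈ maximalIdeal B := fun a => by
    have : IsLocalHom φ := IsLocalHom.of_surjective φ hφ
    exact (map_mem_nonunits_iff φ a).symm
  have hsq : ∀ a ∈ maximalIdeal O, ∀ b ∈ maximalIdeal O, π a * π b = 0 := fun a ha b hb => by
    rw [← map_mul]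
    refine Ideal.Quotient.eq_zero_iff_mem.2 ?_
    rw [map_mul, pow_two]
    exact Ideal.mul_mem_mul ((hloc a).1 ha) ((hloc b).1 hb)
  have hCκ : ∀ y ∈ maximalIdeal B ^ 2, residue B y = 0 := fun y hy =>
    (residue_eq_zero_iff y).2 (Ideal.pow_le_self two_ne_zero hy)
  let e : ResidueField O →+* ResidueField B :=
    Ideal.Quotient.lift (maximalIdeal O) ((residue B).comp φ) fun a ha =>
      (residue_eq_zero_iff _).2 ((hloc a).1 ha)
  have he : Function.Bijective e := ⟨e.injective, fun y => by
    obtain ⟨b, rfl⟩ := residue_surjective y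
    obtain ⟨a, rfl⟩ := hφ b
    exact ⟨residue O a, rfl⟩⟩
  let ee := RingEquiv.ofBijective e he
  let q₀ : C →+* ResidueField O := ee.symm.toRingHom.comp (Ideal.Quotient.lift _ (residue B) hCκ)
  have hq₀ : ∀ a, q₀ (π a) = residue O a := fun a => ee.injective (ee.apply_symm_apply _)
  let q : C →ₐ[ResidueField O₀] ResidueField O :=
    { q₀ with
      commutes' := fun x => by
        obtain ⟨x, rfl⟩ := residue_surjective x
        show q₀ (π (algebraMap O₀ O x)) = _
        rw [hq₀]
        rfl }
  have hq : Function.Surjective q := fun y => by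
    obtain ⟨a, rfl⟩ := residue_surjective y
    exact ⟨π a, hq₀ a⟩
  have hnil : IsNilpotent (RingHom.ker (q : C →+* ResidueField O)) := by
    refine ⟨2, le_bot_iff.1 ?_⟩
    refine (pow_two _).trans_le (Ideal.mul_le.2 ?_)
    intro r hr s hs
    obtain ⟨a, rfl⟩ := hπ r
    obtain ⟨b, rfl⟩ := hπ s
    exact hsq a ((residue_eq_zero_iff a).1 ((hq₀ a).symm.trans hr)) b
      ((residue_eq_zero_iff b).1 ((hq₀ b).symm.trans hs))
  let σ := Algebra.FormallySmooth.liftOfSurjective (AlgHom.id _ (ResidueField O)) q hq hnil
  have hσ : ∀ x, q (σ x) = x := Algebra.FormallySmooth.liftOfSurjective_apply _ _ hq hnil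
  let := π.toAlgebra
  let := (π.comp (algebraMap O₀ O)).toAlgebra
  have : IsScalarTower O₀ O C := IsScalarTower.of_algebraMap_eq fun _ => rfl
  have hδmem : ∀ a, ∀ c ∈ maximalIdeal O, π c * (π a - σ (residue O a)) = 0 := fun a c hc => by
    obtain ⟨b, hb⟩ := hπ (π a - σ (residue O a))
    have : residue O b = 0 := by
      have h1 := congrArg q₀ hb
      rw [hq₀, map_sub, hq₀] at h1
      rw [h1]
      exact sub_eq_zero.2 (hσ _).symm
    rw [← hb]
    exact hsq c hc b ((residue_eq_zero_iff b).1 this)
  have hmul : ∀ a b, π a * (π b - σ (residue O b)) = σ (residue O a) * (π b - σ (residue O b)) := by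
    intro a b
    obtain ⟨c, hc⟩ := hπ (σ (residue O a))
    have hca : a - c ∈ maximalIdeal O := by
      rw [← residue_eq_zero_iff, map_sub, ← hq₀ c, hc]
      exact sub_eq_zero.2 (hσ _).symm
    have := hδmem b (a - c) hca
    rwa [map_sub, hc, sub_mul, sub_eq_zero] at this
  let δl : O →ₗ[O₀] C :=
    { toFun := fun a => π a - σ (residue O a)
      map_add' := fun a b => by simp only [map_add]; ring
      map_smul' := fun r a => by
        simp only [Algebra.smul_def, map_mul, RingHom.id_apply]
        have : residue O (algebraMap O₀ O r) = algebraMap (ResidueField O₀) (ResidueField O) (residue O₀ r) :=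
          rfl
        rw [this, AlgHom.commutes]
        show π (algebraMap O₀ O r) * π a - π (algebraMap O₀ O r) * _ = π (algebraMap O₀ O r) * _
        ring }
  let δ : Derivation O₀ O C := Derivation.mk' δl fun a b => by
    show π (a * b) - σ (residue O (a * b)) = π a * (π b - σ (residue O b)) + π b * (π a - σ (residue O a))
    rw [map_mul, map_mul, map_mul]
    linear_combination -(hmul a b)
  by_contra hcon
  simp only [not_exists, not_and, not_not] at hcon
  have hzero : ∀ h ∈ maximalIdeal O, π h = 0 := by
    intro h hh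
    have h1 : KaehlerDifferential.D O₀ O h ∈ maximalIdeal O • (⊤ : Submodule O (Ω[O⁄O₀])) :=
      (S0393.one_tmul_eq_zero_iff (maximalIdeal O) _).1 (hcon h hh)
    have h2 : δ h = 0 := by
      rw [← Derivation.liftKaehlerDifferential_comp_D δ h]
      refine Submodule.smul_induction_on h1 ?_ ?_
      · intro c hc ω _
        rw [map_smul]
        induction (KaehlerDifferential.span_range_derivation O₀ O).ge (Submodule.mem_top (x := ω))
          using Submodule.span_induction with
        | mem y hy =>
          obtain ⟨b, rfl⟩ := hy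
          rw [Derivation.liftKaehlerDifferential_comp_D]
          exact hδmem b c hc
        | zero => simp
        | add y z _ _ hy hz => rw [map_add, smul_add, hy trivial, hz trivial, add_zero]
        | smul t y _ hy => rw [map_smul, smul_comm, hy trivial, smul_zero]
      · intro y z hy hz
        rw [map_add, hy, hz, add_zero]
    have h3 : π h - σ (residue O h) = 0 := h2
    rw [(residue_eq_zero_iff h).2 hh, map_zero, sub_zero] at h3
    exact h3
  apply hB
  have hle : maximalIdeal B ≤ maximalIdeal B • maximalIdeal B := fun b hb => by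
    obtain ⟨a, rfl⟩ := hφ b
    rw [smul_eq_mul, ← pow_two]
    exact Ideal.Quotient.eq_zero_iff_mem.1 (hzero a ((hloc a).2 hb))
  exact Submodule.eq_bot_of_le_smul_of_le_jacobson_bot _ _ (IsNoetherian.noetherian _) hle
    (maximalIdeal_le_jacobson _)

end Groth.Agent.SmoothSlice
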